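import Groth.Agent.BivarLib.C1Class
import Groth.Agent.DimFormulaLib.FibrePoints

/-!
# Chains of first Chern classes longer than the dimension vanish
-/

set_option autoImplicit false
set_option backward.isDefEq.respectTransparency false
set_option linter.style.haveILetI false

universe u

open CategoryTheory CategoryTheory.Limits AlgebraicGeometry TopologicalSpace

noncomputable section

namespace Groth.Agent.C1DimLib

open CycLib BivarLib

/-- On a scheme of dimension at most `d`, points have height at most `d`. -/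
theorem height_le {X : Scheme.{u}} {d : ℕ} (hd : topologicalKrullDim X ≤ (d : WithBot ℕ∞)) (z : X) :
    Order.height z ≤ (d : ℕ∞) := by
  have h := (DimFormulaLib.topologicalKrullDim_closure_singleton z).symm.le.trans
    ((Topology.IsInducing.subtypeVal (t := closure ({z} : Set X))).topologicalKrullDim_le.trans hd)
  exact_mod_cast h

/-- A point outside an open containing one of its generalizations has smaller height. -/
theorem height_add_one_le {X : Scheme.{u}} {a b : X} (h : a ⤳ b) {W : X.Opens} (ha : a ∈ W) (hb : b ∉ W) :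
    Order.height b + 1 ≤ Order.height a := by
  refine Order.height_add_one_le (lt_of_le_not_ge (Scheme.le_iff_specializes.2 h) fun h' => hb ?_)
  exact (Scheme.le_iff_specializes.1 h').mem_open W.2 ha

variable {X Y : Scheme.{u}} (g : Y ⟶ X) {L : X.Modules} {δ : Y → ℤ}

/-- Rational sections pulled back from local frames of the base. -/
theorem exists_secs_supported [IsLocallyNoetherian Y] [IsLocallyNoetherian X] (hδ : Cyc.IsDimFun Y δ)
    (hL : PicF.IsInvertible L) :
    ∃ v : (η : Y) → Cyc.secFibre ((Scheme.Modules.pullback g).obj L) η, (∀ η, v η ≠ 0) ∧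
      ∀ η ζ : Y, Cyc.secDivFun δ _ η (v η) ζ ≠ 0 → Order.height (g ζ) + 1 ≤ Order.height (g η) := by
  choose W s hW hs using fun ξ : X => ParaFLib.exists_gen_nhd hL ξ
  refine ⟨fun η => pullFib g L η (mkF L (g η) (L.presheaf.germ (W (g η)) (g η) (hW _) (s (g η)))), fun η => ?_,
    fun η ζ h => ?_⟩
  · refine pullFib_ne_zero g L hL fun e => one_ne_zero (α := X.residueField (g η)) ?_
    have h1 := (smul_mkF_eq_zero_iff ((hs (g η)).bijective_germ (g η) (hW _)) 1).1 (by rw [one_smul]; exact e)
    rwa [map_one] at h1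
  · obtain ⟨hsp, hd⟩ := specializes_of_secDivFun_ne_zero h
    refine height_add_one_le (hsp.map g.continuous) (hW (g η)) fun hζ => h ?_
    let t := L.presheaf.germ (W (g η)) (g ζ) hζ (s (g η))
    have ht : ∀ z (hz : z ⤳ g ζ),
        Function.Bijective fun r : X.presheaf.stalk z => r • L.presheaf.stalkSpecializes hz t := fun z hz => by
      rw [TopCat.Presheaf.germ_stalkSpecializes_apply]
      exact (hs (g η)).bijective_germ z (hz.mem_open (W (g η)).2 hζ)
    have he : pullFib g L η (mkF L (g η) (L.presheaf.germ (W (g η)) (g η) (hW _) (s (g η)))) =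
        pullFib g L η ((1 : X.presheaf.stalk (g η)) •
          mkF L (g η) (L.presheaf.stalkSpecializes (hsp.map g.continuous) t)) := by
      rw [one_smul, TopCat.Presheaf.germ_stalkSpecializes_apply]
    show Cyc.secDivFun δ _ η (pullFib g L η (mkF L (g η) (L.presheaf.germ (W (g η)) (g η) (hW _) (s (g η))))) ζ = 0
    rw [he, secDivFun_pullFib g hδ hL ht (hsp.map g.continuous) 1 rfl, divFun_of hsp hd, map_one, map_one,
      ordAt_one hδ hsp hd]

variable {δX : X → ℤ}

/-- Capping a cycle with a first Chern class lowers the height of the image of its support. -/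
theorem exists_rep_succ (hX : Cyc.IsSetup X δX) {c : Bivar.OpCl 1 X δX} (hc : Bivar.IsC1Class L c)
    (s : Bivar.OSq X δX) {k : ℤ} (α : AlgebraicCycle s.Y ℤ) (hα : α ∈ Cyc.Zk s.Y s.δ k) {b : ℕ∞}
    (hb : ∀ y, α y ≠ 0 → Order.height (s.g y) ≤ b) :
    ∃ (γ : AlgebraicCycle s.Y ℤ) (hγ : γ ∈ Cyc.Zk s.Y s.δ (k - 1)), c.op s k (ChowOps.cl α hα) = ChowOps.cl γ hγ ∧
      ∀ y, γ y ≠ 0 → Order.height (s.g y) + 1 ≤ b := by
  have hY := isSetup_osq hX s
  haveI := hY.1
  haveI := hX.1
  obtain ⟨v, hv, hsupp⟩ := exists_secs_supported s.g hY.2.2 hc.1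
  refine ⟨c1Cycle hY.2.2 (AmpleLib.isInvertible_pullback s.g hc.1) α v, mem_Zk_c1 hα rfl,
    hc.2 s k α hα v hv _ rfl _, fun y hy => ?_⟩
  obtain ⟨η, hη⟩ := exists_ne_zero_finsum hy
  exact (hsupp η y (right_ne_zero_of_mul hη)).trans (hb η (left_ne_zero_of_mul hη))

end Groth.Agent.C1DimLib
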